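import Cfsg.Agent.Lib.PGroup.MaximalClass
import Cfsg.Agent.Lib.PGroup.NormalAbelian

/-!
# p-groups whose non-cyclic subgroups are self-centralizing

* `sc_of_cube`: a non-abelian group of order `p ^ 3`.
* `card_le_cube_of_sc`: odd `p`: the order is at most `p ^ 3`.
* `sc_of_class`, `class_of_sc`: 2-groups: exactly those of maximal class.
-/

set_option autoImplicit false

open Subgroup

namespace Cfsg.Agent.SelfCentNC

universe u

/-- Every non-cyclic subgroup contains its centralizer. -/
def SC (G : Type u) [Group G] : Prop :=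
  ∀ H : Subgroup G, ¬ IsCyclic ↥H → Subgroup.centralizer (H : Set G) ≤ H

variable {G : Type u} [Group G] [Finite G] {p : ℕ} [Fact p.Prime]

theorem sc_of_cube (hna : ¬ IsMulCommutative G) (hG : Nat.card G = p ^ 3) : SC G := by
  intro H hH
  have hp : p.Prime := Fact.out
  obtain ⟨k, hk3, hk⟩ := (Nat.dvd_prime_pow hp).1 (hG ▸ H.card_subgroup_dvd_card)
  have hk2 : 2 ≤ k := by
    by_contra hlt
    rcases (by omega : k = 0 ∨ k = 1) with rfl | rfl
    · exact hH (by
        have : Subsingleton H := (Nat.card_eq_one_iff_unique.1 (by simpa using hk)).1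
        infer_instance)
    · exact hH (isCyclic_of_prime_card (p := p) (by simpa using hk))
  rcases (by omega : k = 2 ∨ k = 3) with rfl | rfl
  · have hab : IsMulCommutative H := IsPGroup.isMulCommutative_of_card_eq_prime_sq hk
    have hle : H ≤ centralizer (H : Set G) := le_centralizer H
    have hne : centralizer (H : Set G) ≠ ⊤ := fun htop => by
      have hHc : H ≤ center G := fun h hh => mem_center_iff.2 fun g =>
        ((htop ▸ mem_top g : g ∈ centralizer (H : Set G)) h hh).symm
      refine hna ⟨⟨?_⟩⟩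
      have h1 : (center G).index ∣ p := by
        have h2 : H.index = p := by
          have := H.card_mul_index
          rw [hk, hG, pow_succ p 2] at this
          exact Nat.eq_of_mul_eq_mul_left (pow_pos hp.pos 2) this
        exact h2 ▸ index_dvd_of_le hHc
      have : IsCyclic (G ⧸ center G) := by
        rcases (Nat.dvd_prime hp).1 h1 with h | h
        · have : Subsingleton (G ⧸ center G) :=
            (Nat.card_eq_one_iff_unique.1 (by rw [← index_eq_card, h])).1
          infer_instance
        · exact isCyclic_of_prime_card (p := p) (by rw [← index_eq_card, h])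
      exact (commGroupOfCyclicCenterQuotient (QuotientGroup.mk' (center G))
        (QuotientGroup.ker_mk' (center G)).le).mul_comm
    obtain ⟨j, hj3, hj⟩ := (Nat.dvd_prime_pow hp).1 (hG ▸ (centralizer (H : Set G)).card_subgroup_dvd_card)
    have hj2 : j ≠ 3 := fun h => hne (eq_top_of_card_eq _ (by rw [hj, h, hG]))
    exact (eq_of_le_of_card_ge hle (by rw [hj, hk]; exact Nat.pow_le_pow_right hp.pos (by omega))).ge
  · rw [eq_top_of_card_eq H (by rw [hk, hG])]
    exact le_top

theorem card_le_cube_of_sc (hp : p ≠ 2) (hG : IsPGroup p G) (hna : ¬ IsMulCommutative G) (h : SC G) :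
    Nat.card G = p ^ 3 := by
  have hpp : p.Prime := Fact.out
  have hnc : ¬ IsCyclic (⊤ : Subgroup G) := fun hc => hna <| by
    have := isCyclic_of_surjective (Subgroup.topEquiv (G := G)).toMonoidHom
      (Subgroup.topEquiv (G := G)).surjective
    exact IsCyclic.isMulCommutative
  obtain ⟨A, -, hAn, hA, hAc⟩ := PGroup.exists_normal_elementary_sq hp hG hnc
  have hC : centralizer (A : Set G) ≤ A := h A fun hcyc => by
    obtain ⟨g, hg⟩ := IsCyclic.exists_ofOrder_eq_natCard (α := A)
    have h1 : orderOf g ∣ p := orderOf_dvd_of_pow_eq_one (Subtype.ext (by simpa using hA.2 g g.2))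
    rw [hg, hAc] at h1
    have := Nat.le_of_dvd hpp.pos h1
    have := hpp.two_le
    nlinarith
  have hidx := PGroup.index_centralizer_le hG 2 A hAn hAc
  have hA2 : Nat.card (centralizer (A : Set G)) ≤ p ^ 2 := hAc ▸ Nat.le_of_dvd Nat.card_pos (card_dvd_of_le hC)
  have hle : Nat.card G ≤ p ^ 3 := by
    rw [← (centralizer (A : Set G)).card_mul_index, pow_succ p 2]
    exact Nat.mul_le_mul hA2 (by simpa using hidx)
  obtain ⟨n, hn⟩ := IsPGroup.iff_card.1 hG
  rcases (by
    have : n ≤ 3 := (Nat.pow_le_pow_iff_right hpp.one_lt).1 (hn ▸ hle)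
    omega : n = 3 ∨ n = 2 ∨ n ≤ 1) with rfl | rfl | hn1
  · exact hn
  · exact absurd (IsPGroup.isMulCommutative_of_card_eq_prime_sq hn) hna
  · refine absurd ?_ hna
    rcases (by omega : n = 0 ∨ n = 1) with rfl | rfl
    · have : Subsingleton G := (Nat.card_eq_one_iff_unique.1 (by simpa using hn)).1
      exact IsCyclic.isMulCommutative
    · have := isCyclic_of_prime_card (α := G) (p := p) (by simpa using hn)
      exact IsCyclic.isMulCommutative

theorem three_le_exponent (hna : ¬ IsMulCommutative G) {n : ℕ} (hG : Nat.card G = p ^ n) : 3 ≤ n := by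
  by_contra hlt
  rcases (by omega : n = 0 ∨ n = 1 ∨ n = 2) with rfl | rfl | rfl
  · have : Subsingleton G := (Nat.card_eq_one_iff_unique.1 (by simpa using hG)).1
    exact hna IsCyclic.isMulCommutative
  · have := isCyclic_of_prime_card (α := G) (p := p) (by simpa using hG)
    exact hna IsCyclic.isMulCommutative
  · exact hna (IsPGroup.isMulCommutative_of_card_eq_prime_sq hG)

/-- 2-groups of maximal class. -/
theorem sc_of_class {n : ℕ} (hn : 3 ≤ n) (hna : ¬ IsMulCommutative G) (hG : Nat.card G = 2 ^ n)
    (hc : Group.nilpotencyClass G = n - 1) : SC G := by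
  have : Fact (Nat.Prime 2) := ⟨Nat.prime_two⟩
  rcases eq_or_lt_of_le hn with rfl | hn4
  · exact sc_of_cube hna hG
  have hab : (_root_.commutator G).index = 4 := by
    have h1 := PGroup.card_lcs_of_maximal_class hn hG hc (i := 1) le_rfl (by omega)
    have h2 : ((⊤ : Subgroup G).lowerCentralSeries 1) = _root_.commutator G := by
      simp [Subgroup.lowerCentralSeries, commutator_def]
    rw [h2] at h1
    have h3 := (_root_.commutator G).card_mul_index
    rw [h1, hG] at h3
    have h4 : 2 ^ n = 2 ^ (n - 1 - 1) * 4 := by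
      rw [show (4 : ℕ) = 2 ^ 2 by rfl, ← pow_add]; congr 1; omega
    exact Nat.eq_of_mul_eq_mul_left (pow_pos two_pos _) (h3.trans h4)
  obtain ⟨a, b, hao, hb, hb2, hba, hZ, -⟩ := PGroup.two_group_data hn hG hab
  set Z := a ^ 2 ^ (n - 2) with hZdef
  set T := zpowers a with hT
  have hTi : T.index = 2 := by
    have h := T.card_mul_index
    rw [Nat.card_zpowers, hao, hG] at h
    refine Nat.eq_of_mul_eq_mul_left (pow_pos two_pos (n - 1)) (h.trans ?_)
    rw [← pow_succ]; congr 1; omega
  have hcomm : ∀ u ∈ T, ∀ v ∈ T, u * v = v * u := by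
    rintro _ ⟨i, rfl⟩ _ ⟨j, rfl⟩
    rw [← zpow_add, ← zpow_add, add_comm]
  -- fixed points of an element outside `T`
  have hfix : ∀ x, x ∉ T → ∀ c ∈ T, c * x = x * c → c ∈ zpowers Z := by
    intro x hx c hc hcx
    obtain ⟨t, ht, rfl⟩ : ∃ t ∈ T, b * t = x :=
      ⟨b⁻¹ * x, by
        rw [mul_mem_iff_of_index_two hTi]
        exact iff_of_false (fun h => hb (by simpa using h)) hx, by group⟩
    have hcb : c * b = b * c := by
      have h1 : b * (c * t) = c * (b * t) := by rw [hcomm c hc t ht, ← mul_assoc, hcx]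
      rw [← mul_assoc, ← mul_assoc] at h1
      exact (mul_right_cancel h1).symm
    obtain ⟨j, rfl⟩ := hc
    simp only at hcb ⊢
    -- `b a b⁻¹ = w a⁻¹`
    set w := b * a * b⁻¹ * a with hw
    have hwa : Commute w a⁻¹ := (mem_center_iff.1 hba a⁻¹).symm
    have h1 : a ^ j = w ^ j * (a ^ j)⁻¹ := by
      calc a ^ j = b * a ^ j * b⁻¹ := by rw [← hcb, mul_inv_cancel_right]
        _ = (b * a * b⁻¹) ^ j := conj_zpow.symm
        _ = (w * a⁻¹) ^ j := by rw [hw, mul_inv_cancel_right]
        _ = w ^ j * (a ^ j)⁻¹ := by rw [hwa.mul_zpow, inv_zpow]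
    have h2 : a ^ (2 * j) = w ^ j := by
      rw [two_mul, zpow_add]
      nth_rewrite 1 [h1]
      rw [inv_mul_cancel_right]
    rw [hZ] at hba
    obtain ⟨e, he⟩ := mem_zpowers_iff.1 hba
    rw [← he, hZdef, ← zpow_natCast, ← zpow_mul, ← zpow_mul, zpow_eq_zpow_iff_modEq, hao] at h2
    obtain ⟨m, rfl⟩ : ∃ m, n = m + 4 := ⟨n - 4, by omega⟩
    rw [show m + 4 - 2 = m + 2 by omega, show m + 4 - 1 = m + 3 by omega] at h2
    have hjeven : (2 ^ (m + 2) : ℤ) ∣ j := by
      obtain ⟨c, hc⟩ := h2.dvd
      push_cast at hc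
      -- `2 j ≡ e j 2^(m+2)`: first `j` is even, then `2 j ≡ 0`
      have h3 : (2 : ℤ) ∣ j := ⟨2 ^ m * e * j - 2 ^ (m + 1) * c, by
        simp only [pow_succ] at hc ⊢
        linarith [hc]⟩
      obtain ⟨i, rfl⟩ := h3
      refine ⟨e * i - c, ?_⟩
      simp only [pow_succ] at hc ⊢
      linarith [hc]
    obtain ⟨i, hi⟩ := hjeven
    refine ⟨i, ?_⟩
    simp only [hZdef]
    rw [show m + 4 - 2 = m + 2 by omega, ← zpow_natCast, ← zpow_mul, hi]
    push_cast
    rfl
  intro H hH c hc
  obtain ⟨x, hxH, hx⟩ : ∃ x ∈ H, x ∉ T := by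
    by_contra hno
    push Not at hno
    exact hH (isCyclic_of_injective (inclusion (hno : H ≤ T)) (inclusion_injective _))
  have hZH : zpowers Z ≤ H := by
    have hne : H ⊓ T ≠ ⊥ := by
      intro hbot
      refine hH ?_
      have hsub : ∀ u ∈ H, u = 1 ∨ u = x := by
        intro u hu
        by_cases huT : u ∈ T
        · exact Or.inl (by simpa [hbot] using (show u ∈ H ⊓ T from ⟨hu, huT⟩))
        · right
          have h1 : x⁻¹ * u ∈ H ⊓ T :=
            ⟨H.mul_mem (H.inv_mem hxH) hu, by
              show x⁻¹ * u ∈ T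
              rw [mul_mem_iff_of_index_two hTi]
              exact iff_of_false (fun h => hx (by simpa using h)) huT⟩
          rw [hbot, mem_bot, inv_mul_eq_one] at h1
          exact h1.symm
      refine ⟨⟨⟨x, hxH⟩, fun u => ?_⟩⟩
      rcases hsub u u.2 with h | h
      · exact ⟨0, Subtype.ext (by simp [h])⟩
      · exact ⟨1, Subtype.ext (by simp [h])⟩
    obtain ⟨k, hk, hk'⟩ : ∃ k : ℕ, 0 < k ∧ Nat.card (H ⊓ T : Subgroup G) = 2 ^ k := by
      obtain ⟨k, hk⟩ := IsPGroup.iff_card.1 ((IsPGroup.of_card hG).to_subgroup (H ⊓ T))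
      refine ⟨k, Nat.pos_of_ne_zero ?_, hk⟩
      rintro rfl
      exact hne (eq_bot_of_card_eq _ (by simpa using hk))
    obtain ⟨y, hy⟩ := exists_prime_orderOf_dvd_card' (G := (H ⊓ T : Subgroup G)) 2
      (hk' ▸ dvd_pow_self 2 hk.ne')
    have hzo : orderOf Z = 2 := by
      rw [hZdef, orderOf_pow' _ (pow_ne_zero _ two_ne_zero), hao,
        show Nat.gcd (2 ^ (n - 1)) (2 ^ (n - 2)) = 2 ^ (n - 2) from
          Nat.gcd_eq_right (pow_dvd_pow 2 (by omega)), Nat.pow_div (by omega) two_pos,
        show n - 1 - (n - 2) = 1 by omega, pow_one]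
    have hzy : Z ∈ zpowers (y : G) := by
      refine PGroup.mem_zpowers_of_isCyclic (p := 2) (C := T) (by rw [hT]; infer_instance) y.2.2
        (pow_mem (mem_zpowers a) _) (by rw [orderOf_coe, hy]) ?_
      rw [← hzo]; exact pow_orderOf_eq_one Z
    exact zpowers_le.2 ((zpowers_le.2 y.2.1 : zpowers (y : G) ≤ H) hzy)
  by_cases hcT : c ∈ T
  · exact hZH (hfix x hx c hcT (hc x hxH).symm)
  · have h1 : c * x ∈ T := by rw [mul_mem_iff_of_index_two hTi]; exact iff_of_false hcT hx
    have h2 : c * x ∈ H := hZH (hfix x hx _ h1 (by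
      have := hc x hxH
      rw [← mul_assoc x, this, mul_assoc]))
    simpa using H.mul_mem h2 (H.inv_mem hxH)

theorem class_of_sc {n : ℕ} (hna : ¬ IsMulCommutative G) (hG : Nat.card G = 2 ^ n) (h : SC G) :
    Group.nilpotencyClass G = n - 1 := by
  have : Fact (Nat.Prime 2) := ⟨Nat.prime_two⟩
  suffices ∃ A : Subgroup G, Nat.card A = 2 ^ 2 ∧ centralizer (A : Set G) = A by
    obtain ⟨A, hA, hC⟩ := this
    exact PGroup.maximal_class_of_selfCentralizing n G hG A hA hC
  have hP : IsPGroup 2 G := IsPGroup.of_card hG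
  by_cases huniq : ∀ x y : G, orderOf x = 2 → y ^ 2 = 1 → y ∈ zpowers x
  · rcases PGroup.unique_order_p_cases hP huniq with hcyc | ⟨-, k, ⟨e⟩⟩
    · exact absurd IsCyclic.isMulCommutative hna
    · refine ⟨zpowers (e.symm (QuaternionGroup.xa 0)), ?_, ?_⟩
      · rw [Nat.card_zpowers, MulEquiv.orderOf_eq, QuaternionGroup.orderOf_xa]; rfl
      · refine le_antisymm (fun g hg => ?_) ?_
        · have hg' : e g * QuaternionGroup.xa 0 = QuaternionGroup.xa 0 * e g := by
            have := hg _ (mem_zpowers _)
            have := congrArg e this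
            simpa using this.symm
          obtain ⟨i, hi⟩ : e g ∈ zpowers (QuaternionGroup.xa (0 : ZMod (2 * 2 ^ k))) := by
            have hm : NeZero (2 * 2 ^ k) := ⟨by positivity⟩
            have key : ∀ i : ZMod (2 * 2 ^ k), i + i = 0 → i = 0 ∨ i = ((2 ^ k : ℕ) : ZMod (2 * 2 ^ k)) := by
              intro i hi
              have h1 := congrArg ZMod.val hi
              rw [ZMod.val_add, ZMod.val_zero] at h1
              obtain ⟨t, ht⟩ := Nat.dvd_of_mod_eq_zero h1
              have := ZMod.val_lt i
              rcases t with _ | _ | t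
              · left; exact (ZMod.val_eq_zero i).1 (by omega)
              · right; rw [← ZMod.natCast_zmod_val i]; congr 1; omega
              · nlinarith
            have hsq : (QuaternionGroup.xa (0 : ZMod (2 * 2 ^ k))) ^ 2 =
                QuaternionGroup.a ((2 ^ k : ℕ) : ZMod (2 * 2 ^ k)) := by
              rw [pow_two, QuaternionGroup.xa_mul_xa]; simp
            cases hge : e g with
            | a i =>
              rw [hge, QuaternionGroup.a_mul_xa, QuaternionGroup.xa_mul_a] at hg'
              injection hg' with hg'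
              rcases key i (by linear_combination (-1 : ZMod (2 * 2 ^ k)) * hg') with rfl | rfl
              · exact one_mem _
              · rw [← hsq]; exact pow_mem (mem_zpowers _) 2
            | xa i =>
              rw [hge, QuaternionGroup.xa_mul_xa, QuaternionGroup.xa_mul_xa] at hg'
              injection hg' with hg'
              rcases key i (by linear_combination (-1 : ZMod (2 * 2 ^ k)) * hg') with rfl | rfl
              · exact mem_zpowers _
              · have h5 : QuaternionGroup.xa (0 : ZMod (2 * 2 ^ k)) ^ 3 =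
                    QuaternionGroup.xa ((2 ^ k : ℕ) : ZMod (2 * 2 ^ k)) := by
                  rw [pow_succ', hsq, QuaternionGroup.xa_mul_a, zero_add]
                rw [← h5]; exact pow_mem (mem_zpowers _) 3
          exact ⟨i, by apply e.injective; rw [← hi]; simp⟩
        · exact le_centralizer _
  · push Not at huniq
    obtain ⟨x₀, y₀, hx₀, hy₀, hxy₀⟩ := huniq
    have : Nontrivial G := ⟨⟨x₀, 1, fun h => by simp [h] at hx₀⟩⟩
    obtain ⟨z, hzc, hzo⟩ : ∃ z ∈ center G, orderOf z = 2 := by
      have := hP.center_nontrivial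
      obtain ⟨m, hm⟩ := IsPGroup.iff_card.1 (hP.to_subgroup (center G))
      have hm0 : m ≠ 0 := fun h0 => by
        have h1 : 1 < Nat.card (center G) := Finite.one_lt_card
        rw [hm, h0] at h1; simp at h1
      obtain ⟨z, hz⟩ := exists_prime_orderOf_dvd_card' (G := center G) 2 (hm ▸ dvd_pow_self 2 hm0)
      exact ⟨z, z.2, by rw [orderOf_coe, hz]⟩
    have hz2 : z * z = 1 := by rw [← pow_two, ← hzo, pow_orderOf_eq_one]
    obtain ⟨y, hy, hyz⟩ : ∃ y : G, y * y = 1 ∧ y ∉ zpowers z := by
      by_contra hno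
      push Not at hno
      have hyz' := hno y₀ (by rw [← pow_two, hy₀])
      have hxz := hno x₀ (by rw [← pow_two, ← hx₀, pow_orderOf_eq_one])
      have : zpowers x₀ = zpowers z := eq_of_le_of_card_ge (zpowers_le.2 hxz)
        (by rw [Nat.card_zpowers, Nat.card_zpowers, hx₀, hzo])
      exact hxy₀ (this ▸ hyz')
    have hy1 : y ≠ 1 := fun h1 => hyz (h1 ▸ one_mem _)
    have hzy : z * y = y * z := (mem_center_iff.1 hzc y).symm
    let V : Subgroup G :=
      { carrier := {u | u = 1 ∨ u = z ∨ u = y ∨ u = z * y}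
        one_mem' := Or.inl rfl
        mul_mem' := by
          have e1 : y * (z * y) = z := by rw [← mul_assoc, ← hzy, mul_assoc, hy, mul_one]
          have e2 : z * (z * y) = y := by rw [← mul_assoc, hz2, one_mul]
          have e3 : z * y * z = y := by rw [mul_assoc, ← hzy, e2]
          have e4 : z * y * y = z := by rw [mul_assoc, hy, mul_one]
          have e5 : z * y * (z * y) = 1 := by rw [← mul_assoc, e3, hy]
          rintro _ _ (rfl | rfl | rfl | rfl) (rfl | rfl | rfl | rfl) <;>
            simp [hz2, hy, ← hzy, e1, e2, e3, e4, e5]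
        inv_mem' := by
          have e5 : z * y * (z * y) = 1 := by
            rw [mul_assoc, ← mul_assoc y, ← hzy, mul_assoc z, hy, mul_one, hz2]
          rintro _ (rfl | rfl | rfl | rfl)
          · simp
          · exact Or.inr (Or.inl (inv_eq_of_mul_eq_one_right hz2))
          · exact Or.inr (Or.inr (Or.inl (inv_eq_of_mul_eq_one_right hy)))
          · exact Or.inr (Or.inr (Or.inr (inv_eq_of_mul_eq_one_right e5))) }
    have hz1 : z ≠ 1 := fun h1 => by simp [h1] at hzo
    have hyz1 : y ≠ z := fun h1 => hyz (h1 ▸ mem_zpowers _)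
    have hzy1 : z * y ≠ 1 := fun h1 => hyz1 (mul_left_cancel (h1.trans hz2.symm))
    have hcard : Nat.card V = 2 ^ 2 := by
      show Nat.card ({u | u = 1 ∨ u = z ∨ u = y ∨ u = z * y} : Set G) = _
      rw [show ({u | u = 1 ∨ u = z ∨ u = y ∨ u = z * y} : Set G) = ({1, z, y, z * y} : Set G) from rfl,
        Nat.card_coe_set_eq, Set.ncard_insert_of_notMem, Set.ncard_insert_of_notMem, Set.ncard_pair]
      · rfl
      · exact fun h1 => hz1 (mul_eq_right.1 h1.symm)
      · simp only [Set.mem_insert_iff, Set.mem_singleton_iff, not_or]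
        exact ⟨hyz1.symm, fun h1 => hy1 (mul_eq_left.1 h1.symm)⟩
      · simp only [Set.mem_insert_iff, Set.mem_singleton_iff, not_or]
        exact ⟨hz1.symm, hy1.symm, hzy1.symm⟩
    have hab : IsMulCommutative V := IsPGroup.isMulCommutative_of_card_eq_prime_sq hcard
    have hVnc : ¬ IsCyclic V := fun hc => by
      obtain ⟨g, hg⟩ := IsCyclic.exists_ofOrder_eq_natCard (α := V)
      have hsq : (g : G) ^ 2 = 1 := by
        rcases g.2 with h1 | h1 | h1 | h1 <;> rw [h1, pow_two]
        · simp
        · exact hz2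
        · exact hy
        · rw [mul_assoc, ← mul_assoc y, ← hzy, mul_assoc z, hy, mul_one, hz2]
      have h2 : orderOf g ∣ 2 := orderOf_dvd_of_pow_eq_one (Subtype.ext (by simpa using hsq))
      rw [hg, hcard] at h2
      exact absurd (Nat.le_of_dvd two_pos h2) (by norm_num)
    exact ⟨V, hcard, le_antisymm (h V hVnc) (le_centralizer V)⟩

/-- The class of a group of order `p ^ n` is at most `n - 1` for `n ≥ 2`. -/
theorem class_le_of_card {q : ℕ} [Fact q.Prime] : ∀ (n : ℕ) (X : Type u) [Group X] [Finite X],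
    Nat.card X = q ^ n → Group.nilpotencyClass X ≤ max 1 (n - 1) := by
  intro n
  induction n using Nat.strong_induction_on with
  | _ n ih =>
    intro X _ _ hX
    have hq : q.Prime := Fact.out
    have hP : IsPGroup q X := IsPGroup.of_card hX
    have := hP.isNilpotent
    by_cases hab : IsMulCommutative X
    · exact le_max_of_le_left (Group.IsNilpotent.nilpotencyClass_le_one_iff.mpr hab)
    have hn := three_le_exponent hab hX
    have : Nontrivial X := by
      rw [← Finite.one_lt_card_iff_nontrivial, hX]; exact Nat.one_lt_pow (by omega) hq.one_lt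
    obtain ⟨m, hmn, hm⟩ := (Nat.dvd_prime_pow hq).1 (hX ▸ (center X).card_quotient_dvd_card)
    have hmlt : m < n := by
      rcases Nat.lt_or_eq_of_le hmn with h | h
      · exact h
      · exfalso
        have h1 := (center X).card_mul_index
        rw [index_eq_card, hm, h, hX] at h1
        have h2 : Nat.card (center X) = 1 := mul_right_cancel₀ (pow_ne_zero n hq.ne_zero) (h1.trans (one_mul _).symm)
        have := hP.center_nontrivial
        have : 1 < Nat.card (center X) := Finite.one_lt_card
        omega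
    have := ih m hmlt (X ⧸ center X) hm
    rw [nilpotencyClass_eq_quotient_center_plus_one]
    omega

end Cfsg.Agent.SelfCentNC
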